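import Mathlib

/-!
Numeric data for the automorphisms of the group of order seven.
-/

set_option autoImplicit false
set_option maxHeartbeats 4000000

namespace Cfsg.Lib.MonsterSeven

/-- An inverting involution, scaled by eight. -/
def iMat : List (List ℤ) := [
   [-2, 2, 2, -2, -2, 2, -2, 2, 2, -2, -2, 0, 2, 0, 2, 0, 0, 0, -2, 2, -2, 0, 0, 0],
   [2, 2, -2, 2, -2, 2, -2, -2, 2, 2, -2, 0, 2, 0, -2, 0, 0, 0, -2, -2, 2, 0, 0, 0],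
   [2, -2, 2, 2, -2, -2, -2, 2, -2, 2, -2, 0, -2, 0, 2, 0, 0, 0, -2, 2, 2, 0, 0, 0],
   [-2, 2, 2, -2, -2, -2, 2, 2, -2, 2, -2, 0, 2, 0, -2, 0, 0, 0, 2, -2, 2, 0, 0, 0],
   [-2, -2, -2, -2, -2, -2, -2, -2, -2, -2, -2, 0, -2, 0, -2, 0, 0, 0, -2, -2, -2, 0, 0, 0],
   [2, 2, -2, -2, -2, -2, -2, 2, 2, -2, 2, 0, -2, 0, -2, 0, 0, 0, 2, 2, 2, 0, 0, 0],
   [-2, -2, -2, 2, -2, -2, 2, 2, 2, -2, 2, 0, 2, 0, 2, 0, 0, 0, -2, -2, 2, 0, 0, 0],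
   [2, -2, 2, 2, -2, 2, 2, 2, 2, -2, -2, 0, -2, 0, -2, 0, 0, 0, 2, -2, -2, 0, 0, 0],
   [2, 2, -2, -2, -2, 2, 2, 2, -2, 2, 2, 0, -2, 0, 2, 0, 0, 0, -2, -2, -2, 0, 0, 0],
   [-2, 2, 2, 2, -2, -2, -2, -2, 2, 2, 2, 0, -2, 0, 2, 0, 0, 0, 2, -2, -2, 0, 0, 0],
   [-2, -2, -2, -2, -2, 2, 2, -2, 2, 2, -2, 0, -2, 0, 2, 0, 0, 0, 2, 2, 2, 0, 0, 0],
   [0, 0, 0, 0, 0, 0, 0, 0, 0, 0, 0, 2, 0, 2, 0, 2, 2, 2, 0, 0, 0, -6, 2, 2],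
   [2, 2, -2, 2, -2, -2, 2, -2, -2, -2, -2, 0, 2, 0, 2, 0, 0, 0, 2, 2, -2, 0, 0, 0],
   [0, 0, 0, 0, 0, 0, 0, 0, 0, 0, 0, 2, 0, 2, 0, 2, 2, 2, 0, 0, 0, 2, -6, 2],
   [2, -2, 2, -2, -2, -2, 2, -2, 2, 2, 2, 0, 2, 0, -2, 0, 0, 0, -2, 2, -2, 0, 0, 0],
   [0, 0, 0, 0, 0, 0, 0, 0, 0, 0, 0, 2, 0, 2, 0, -6, 2, 2, 0, 0, 0, 2, 2, 2],
   [0, 0, 0, 0, 0, 0, 0, 0, 0, 0, 0, 2, 0, 2, 0, 2, 2, -6, 0, 0, 0, 2, 2, 2],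
   [0, 0, 0, 0, 0, 0, 0, 0, 0, 0, 0, 2, 0, 2, 0, 2, -6, 2, 0, 0, 0, 2, 2, 2],
   [-2, -2, -2, 2, -2, 2, -2, 2, -2, 2, 2, 0, 2, 0, -2, 0, 0, 0, 2, 2, -2, 0, 0, 0],
   [2, -2, 2, -2, -2, 2, -2, -2, -2, -2, 2, 0, 2, 0, 2, 0, 0, 0, 2, -2, 2, 0, 0, 0],
   [-2, 2, 2, 2, -2, 2, 2, -2, -2, -2, 2, 0, -2, 0, -2, 0, 0, 0, -2, 2, 2, 0, 0, 0],
   [0, 0, 0, 0, 0, 0, 0, 0, 0, 0, 0, -6, 0, 2, 0, 2, 2, 2, 0, 0, 0, 2, 2, 2],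
   [0, 0, 0, 0, 0, 0, 0, 0, 0, 0, 0, 2, 0, -6, 0, 2, 2, 2, 0, 0, 0, 2, 2, 2],
   [0, 0, 0, 0, 0, 0, 0, 0, 0, 0, 0, 2, 0, 2, 0, 2, 2, 2, 0, 0, 0, 2, 2, -6]]

/-- A map carrying the standard cross to a cross on which the involution is diagonal, scaled by eight. -/
def yMat : List (List ℤ) := [
   [0, 0, 0, 0, 0, 0, 0, 0, -4, 2, 0, 4, 0, 0, 2, 0, 2, 2, 0, 2, 2, 2, 2, 0],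
   [2, 2, 2, 2, 2, 2, 2, 2, -2, 0, 2, -2, 2, 2, 0, 2, 0, 0, 2, 0, 0, 0, 0, 2],
   [-2, -2, -2, -2, -2, 2, 2, -2, -2, 0, -2, -2, -2, 2, 0, 2, 0, 0, 2, 0, 0, 0, 0, 2],
   [0, 0, 0, 0, 0, -4, 0, 0, 0, 2, 0, 0, 0, 4, -2, 0, 2, 2, 0, -2, 2, -2, -2, 0],
   [0, 0, 0, 0, 0, 4, 0, 0, 0, 2, 0, 0, 0, -4, -2, 0, 2, 2, 0, -2, 2, -2, -2, 0],
   [-4, 0, 0, 0, 0, 0, 0, 0, 0, 2, 0, 0, 4, 0, -2, 0, -2, 2, 0, -2, -2, 2, 2, 0],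
   [-2, -2, -2, 2, 2, 2, 2, 2, 2, 0, 2, 2, -2, 2, 0, 2, 0, 0, -2, 0, 0, 0, 0, -2],
   [2, -2, -2, -2, -2, 2, -2, 2, -2, 0, 2, -2, 2, 2, 0, -2, 0, 0, -2, 0, 0, 0, 0, -2],
   [0, 0, 0, 0, 0, 0, 0, -4, 0, -2, 4, 0, 0, 0, -2, 0, 2, -2, 0, -2, 2, 2, 2, 0],
   [-2, 2, 2, -2, -2, 2, -2, 2, 2, 0, 2, 2, -2, 2, 0, -2, 0, 0, 2, 0, 0, 0, 0, 2],
   [0, 0, 0, 0, 0, 0, 0, 0, 4, 2, 0, -4, 0, 0, 2, 0, 2, 2, 0, 2, 2, 2, 2, 0],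
   [0, -4, 4, 0, 0, 0, 0, 0, 0, -2, 0, 0, 0, 0, 2, 0, 2, 2, 0, -2, -2, -2, 2, 0],
   [-2, 2, 2, 2, 2, 2, -2, -2, -2, 0, -2, -2, -2, 2, 0, -2, 0, 0, -2, 0, 0, 0, 0, -2],
   [0, 0, 0, -4, 4, 0, 0, 0, 0, 2, 0, 0, 0, 0, 2, 0, -2, -2, 0, -2, 2, -2, 2, 0],
   [4, 0, 0, 0, 0, 0, 0, 0, 0, 2, 0, 0, -4, 0, -2, 0, -2, 2, 0, -2, -2, 2, 2, 0],
   [0, 0, 0, 0, 0, 0, 4, 0, 0, 2, 0, 0, 0, 0, -2, -4, 2, -2, 0, 2, -2, -2, 2, 0],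
   [0, 0, 0, 0, 0, 0, 0, 0, 0, -2, 0, 0, 0, 0, -2, 0, -2, 2, -4, 2, 2, -2, 2, 4],
   [0, 0, 0, 0, 0, 0, 0, 0, 0, -2, 0, 0, 0, 0, -2, 0, -2, 2, 4, 2, 2, -2, 2, -4],
   [2, 2, 2, -2, -2, 2, 2, -2, 2, 0, -2, 2, 2, 2, 0, 2, 0, 0, -2, 0, 0, 0, 0, -2],
   [0, 0, 0, 0, 0, 0, 0, 4, 0, -2, -4, 0, 0, 0, -2, 0, 2, -2, 0, -2, 2, 2, 2, 0],
   [2, -2, -2, 2, 2, 2, -2, -2, 2, 0, -2, 2, 2, 2, 0, -2, 0, 0, 2, 0, 0, 0, 0, 2],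
   [0, 4, -4, 0, 0, 0, 0, 0, 0, -2, 0, 0, 0, 0, 2, 0, 2, 2, 0, -2, -2, -2, 2, 0],
   [0, 0, 0, 4, -4, 0, 0, 0, 0, 2, 0, 0, 0, 0, 2, 0, -2, -2, 0, -2, 2, -2, 2, 0],
   [0, 0, 0, 0, 0, 0, -4, 0, 0, 2, 0, 0, 0, 0, -2, 4, 2, -2, 0, 2, -2, -2, 2, 0]]

/-- The signs of the involution on that cross. -/
def iSigns : ℕ := 1821409

/-- A permutation carrying the given one to its square. -/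
def sqPerm : List ℕ := [0, 14, 8, 18, 4, 3, 2, 7, 6, 19, 9, 21, 12, 13, 20, 22, 11, 15, 5, 10, 1, 16, 17, 23]

/-- Its inverse. -/
def sqPermInv : List ℕ := [0, 20, 6, 5, 4, 18, 8, 7, 2, 10, 19, 16, 12, 13, 1, 17, 21, 22, 3, 9, 14, 11, 15, 23]

end Cfsg.Lib.MonsterSeven
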