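import Cfsg.Agent.Lib.MonsterSeven.Rho
import Cfsg.Agent.Lib.MonsterSeven.AutData

/-!
An inverting involution conjugate to a change of signs, and a map inducing an automorphism of order six.
-/

set_option autoImplicit false
set_option maxRecDepth 100000
set_option maxHeartbeats 1000000

namespace Cfsg.Lib.MonsterSeven

open Cfsg Cfsg.Lib.Concrete Cfsg.Lib.MonsterLocal

theorem i_ok : matOk iMat = true := by decide +kernel

theorem y_ok : matOk yMat = true := by decide +kernel

theorem i_inv : ∀ i j : Fin 24,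
    matEntry iMat (gidx (sigma.symm (gpt i))) (gidx (sigma (gpt j))) = matEntry iMat i j := by
  decide +kernel

theorem iSigns_mem : mset iSigns ∈ codeSets :=
  (mset_mem_supports_iff (by decide +kernel)).2 (by decide +kernel)

/-- The inverting involution. -/
noncomputable def iE : Co0 := matCo0 iMat i_ok

/-- The map between the crosses. -/
noncomputable def yE : Co0 := matCo0 yMat y_ok

/-- The change of signs. -/
noncomputable def epsE : Co0 := monoCo0 1 (one_mem _) (mset iSigns) iSigns_mem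

theorem iE_inv : iE * f0 = f0⁻¹ * iE := by
  refine mul_f0_ext fun v => Subtype.ext ?_
  rw [f0_inv_coe]
  show matFun iMat (f0 • v : leechLattice) = fun q => matFun iMat v (sigma q)
  rw [f0_coe]
  exact funext fun p => (matFun_twist (τ := sigma.symm) i_inv _ p).trans (by rw [Equiv.symm_symm])

theorem col_sign_check : ∀ j : Fin 24, ∀ i : Fin 24,
    matFun iMat (matFun yMat (Pi.single (gpt j) 8)) (gpt i) =
      matFun yMat (signedPerm 1 (mset iSigns) (Pi.single (gpt j) 8)) (gpt i) := by
  decide +kernel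

theorem iE_mul_yE : iE * yE = yE * epsE := by
  refine inv_mul_eq_one.1 (Subtype.ext (Equiv.ext fun v => Subtype.ext ?_))
  refine co0_eq_of_e8 (g := (iE * yE)⁻¹ * (yE * epsE)) (f := id) (fun _ _ => rfl) (fun i => ?_) v
  show ((((iE * yE)⁻¹ * (yE * epsE)) • e8 i : leechLattice) : GolayPt → ℤ) = _
  have h : (yE * epsE) • e8 i = (iE * yE) • e8 i := by
    refine Subtype.ext (funext fun p => ?_)
    rw [mul_smul, mul_smul, iE, yE, epsE, matCo0_apply, matCo0_apply, matCo0_apply, monoCo0_smul]
    have := col_sign_check (gidx i) (gidx p)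
    rw [gpt_gidx, gpt_gidx] at this
    exact this.symm
  rw [mul_smul, h, inv_smul_smul]
  rfl

theorem epsE_mem : epsE ∈ signSub := by
  refine ⟨⟨epsE, mono_mem_crossStab _ (one_mem _) _ iSigns_mem⟩, ?_, rfl⟩
  obtain ⟨c, -, h⟩ := crossPerm_spec ⟨epsE, mono_mem_crossStab _ (one_mem _) _ iSigns_mem⟩
  exact MonoidHom.mem_ker.2 (Subtype.ext (mono_unique fun v =>
    (h v).symm.trans (monoCo0_smul 1 (one_mem _) _ iSigns_mem v)))

/-- The squaring permutation. -/
def sqSigma : Equiv.Perm GolayPt where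
  toFun := listFun sqPerm
  invFun := listFun sqPermInv
  left_inv := by decide +kernel
  right_inv := by decide +kernel

/-- It, packed. -/
def sqPack : ℕ := (List.range 24).foldr (fun i acc => (sqPerm.getD i 0) <<< (5 * i) + acc) 0

theorem sqSigma_mem : sqSigma ∈ M24 :=
  rep_mem_M24 (p := sqPack) (by unfold Concrete.Rep; decide +kernel) (by decide +kernel)

theorem sq_comm : ∀ p : GolayPt, sqSigma (sigma p) = sigma (sigma (sqSigma p)) := by decide +kernel

/-- A map inducing an automorphism of order six. -/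
noncomputable def sixE : Co0 := gE * permHom ⟨sqSigma, sqSigma_mem⟩

theorem sixE_conj : sixE * f0 * sixE⁻¹ = f0 ^ 5 := by
  have h1 : permHom ⟨sqSigma, sqSigma_mem⟩ * f0 = f0 ^ 2 * permHom ⟨sqSigma, sqSigma_mem⟩ := by
    rw [f0_pow]
    show permHom _ * permHom _ = _
    rw [← map_mul, ← map_mul]
    refine congrArg permHom (Subtype.ext (Equiv.ext fun p => ?_))
    show sqSigma (sigma p) = (sigma ^ 2) (sqSigma p)
    rw [sq_comm, pow_two]
    rfl
  have h2 : gE * f0 ^ 2 = f0⁻¹ ^ 2 * gE := by
    rw [pow_two, pow_two, ← mul_assoc, gE_inv, mul_assoc, gE_inv, ← mul_assoc]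
  have h5 : f0⁻¹ ^ 2 = f0 ^ 5 := by
    rw [inv_pow]
    refine inv_eq_of_mul_eq_one_right ?_
    rw [← pow_add, f0_pow_seven]
  rw [mul_inv_eq_iff_eq_mul, ← h5, sixE, mul_assoc, h1, ← mul_assoc, h2, mul_assoc]

theorem inverting_not_faithful {g : Co0} (hg : g * f0 = f0⁻¹ * g) :
    ¬ ∀ q ∈ fixSet f0, qact g q = q := fun h =>
  no_invert (mem_crossStab_iff_cls.2 (h _ (by rw [← psi_top]; exact f0_psi _))) hg

theorem fixSet_span {S : AddSubgroup V} (h : ∀ q ∈ fixSet f0, q ∈ sixtySet → q ∈ S) :
    ∀ q ∈ fixSet f0, q ∈ S := by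
  intro q hq
  rw [fixSet_eq] at hq
  obtain ⟨v, rfl⟩ := hq
  have hb : ∀ i : Fin 6, cls (bas i) ∈ S := by
    intro i
    have hc : ∀ i : Fin 6, code (Pi.single i 1 : Fin 6 → ZMod 2) ∈ sixtyFour ∧
        combL (code (Pi.single i 1 : Fin 6 → ZMod 2)) = bas i := by
      intro i
      refine ⟨by revert i; decide +kernel, Subtype.ext ?_⟩
      rw [combL_coe]
      revert i
      show ∀ i : Fin 6, combV (code (Pi.single i 1 : Fin 6 → ZMod 2)) = basV i
      decide +kernel
    have := h _ (phi_fixed _) ((phi_mem_sixty _).2 (hc i).1)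
    rwa [phi_code, (hc i).2] at this
  simp only [phi, AddMonoidHom.finsetSum_apply, bitHom, AddMonoidHom.mk'_apply]
  exact sum_mem fun i _ => nsmul_mem (hb i) _

end Cfsg.Lib.MonsterSeven
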