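import Cfsg.Agent.Lib.MonsterSeven.Defs

/-!
Candidates for a permutation normalizing the group of order seven.
-/

set_option autoImplicit false

namespace Cfsg.Lib.MonsterSeven

open Cfsg Cfsg.Lib.Concrete

/-- One point in each of the six orbits. -/
def orbRep (j : ℕ) : ℕ := (fixPts ++ cycReps).getD j 0

/-- The value at `i` of the map with given images of the orbit representatives, twisting exponents by `e`. -/
def candVal (e : ℕ) (im : List ℕ) (i : ℕ) : ℕ :=
  pget (sPow (e * pget orbK i % 7)) (im.getD (pget orbJ i) 0)

/-- The leaf test. -/
def candLeaf (e : ℕ) (im : List ℕ) : Bool :=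
  !(basisMasks.all fun b => isCode (orMask bits24 (fun i => b.testBit i) (candVal e im))) ||
    (e == 1 && centPerms.any fun p => bits24.all fun i => pget p.1 i == candVal e im i)

/-- Two points in one orbit. -/
def sameOrb (a b : ℕ) : Bool := pget orbJ a == pget orbJ b

/-- All candidates with given images of two fixed points. -/
def candAll (e a b : ℕ) : Bool :=
  a == b || fixPts.all fun c => c == a || c == b ||
    movPts.all fun x => movPts.all fun y => sameOrb x y ||
      movPts.all fun w => sameOrb x w || sameOrb y w || candLeaf e [a, b, c, x, y, w]

end Cfsg.Lib.MonsterSeven
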