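import Cfsg.Agent.Lib.MonsterSeven.Defs

/-!
Numeric facts about the fixed classes and their monomial stabilizers.
-/

set_option autoImplicit false
set_option maxRecDepth 100000
set_option maxHeartbeats 4000000

namespace Cfsg.Lib.MonsterSeven

open Cfsg Cfsg.Lib.Concrete

theorem class_check : (List.range 64).all (fun c => c == 0 ||
    (eqMod2 (combV c) (repV c) && inLeech (repV c) && decide (sqNorm (repV c) = repN.getD c 0) &&
      [(32 : ℤ), 48, 64].contains (repN.getD c 0) &&
      ((repN.getD c 0 == 64) == sixtyFour.contains c))) = true := by
  decide +kernel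

theorem sixtyFour_check : sixtyFour.Nodup ∧ sixtyFour.length = 14 ∧
    sixtyFour.all (fun c => decide (c < 64) && decide (0 < c) &&
      (decide (c < 8) || (List.range 8).any fun a => decide (0 < a) && invImg.getD a 0 == c)) = true ∧
    (List.range 8).all (fun a => a == 0 || (sixtyFour.contains a && sixtyFour.contains (invImg.getD a 0) &&
      decide (8 ≤ invImg.getD a 0))) = true := by
  decide +kernel

theorem basFix_check : ∀ i : Fin 6, ∀ p : GolayPt, basV i (sigma.symm p) = basV i p := by
  decide +kernel

theorem trace_check : (List.range 37).all (fun j =>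
    decide (traceCodes.getD j 0 < 64) &&
      eqMod2 (traceV (gensList.getD j oddBase)) (combV (traceCodes.getD j 0))) = true ∧
    gensList.length = 37 := by
  decide +kernel

theorem codes_check : codeList.all (fun m =>
    !(bits24.all fun i => m.testBit (pget (sPow 1) i) == m.testBit i) || fixCodes.contains m) = true := by
  decide +kernel

theorem mono_check : centPerms.all (fun p => fixCodes.all fun m =>
    ((List.range 7).any fun k => (bits24.all fun i => pget p.1 i == pget (sPow k) i) && (m == 0 || m == 16777215)) ||
      [2, 4].any fun a => (List.range 8).any fun b =>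
        b != a && eqMod2 (monoV p.2 m (combV a)) (combV b)) = true := by
  decide +kernel

theorem u_ok : matOk uMat = true := by decide +kernel

theorem g_ok : matOk gMat = true := by decide +kernel

theorem u_comm : ∀ i j : Fin 24, matEntry uMat (gidx (sigma (gpt i))) (gidx (sigma (gpt j))) = matEntry uMat i j := by
  decide +kernel

theorem g_inv : ∀ i j : Fin 24,
    matEntry gMat (gidx (sigma.symm (gpt i))) (gidx (sigma (gpt j))) = matEntry gMat i j := by
  decide +kernel

theorem m_comm : ∀ p : GolayPt, mSigma (sigma p) = sigma (mSigma p) ∧
    (sigma p ∈ mset mSigns ↔ p ∈ mset mSigns) := by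
  decide +kernel

/-- The images of the three vectors under the two centralizing maps. -/
def actCols : List (List ℕ) := [[2, 5, 1], [1, 5, 2]]

theorem image_check :
    ([0, 1, 2].all fun j => eqMod2 (matFun uMat (combV (2 ^ j))) (combV ((actCols.getD 0 []).getD j 0))) = true ∧
    ([0, 1, 2].all fun j => eqMod2 (signedPerm mSigma (mset mSigns) (combV (2 ^ j)))
      (combV ((actCols.getD 1 []).getD j 0))) = true ∧
    ((List.range 8).all fun a => a == 0 || eqMod2 (matFun gMat (combV a)) (combV (invImg.getD a 0))) = true := by
  decide +kernel

end Cfsg.Lib.MonsterSeven
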