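import Cfsg.Agent.Lib.Concrete.LeechMatrix
import Cfsg.Agent.Lib.Concrete.LeechCrossCore
import Cfsg.Agent.Lib.Concrete.LeechMod2
import Cfsg.Agent.Lib.MonsterLocal.ModTwo
import Cfsg.Agent.Lib.MonsterSeven.Data

/-!
The permutation of order seven, six spanning vectors of its fixed classes, and the tests used on them.
-/

set_option autoImplicit false

namespace Cfsg.Lib.MonsterSeven

open Cfsg Cfsg.Lib.Concrete Cfsg.Lib.MonsterLocal

/-- A listed permutation of the points. -/
def listFun (l : List ℕ) (p : GolayPt) : GolayPt := gpt (Fin.ofNat 24 (l.getD (gidx p).val 0))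

/-- The permutation of order seven. -/
def sigma : Equiv.Perm GolayPt where
  toFun := listFun sigL
  invFun := listFun sigInvL
  left_inv := by decide +kernel
  right_inv := by decide +kernel

/-- The centralizing permutation. -/
def mSigma : Equiv.Perm GolayPt where
  toFun := listFun mPerm
  invFun := listFun mPermInv
  left_inv := by decide +kernel
  right_inv := by decide +kernel

/-- The packed powers. -/
def sPow (k : ℕ) : ℕ := sigPows.getD k 0

theorem rep_sigma : Concrete.Rep sigma (sPow 1) := by unfold Concrete.Rep; decide +kernel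

theorem sigma_mem : sigma ∈ M24 := rep_mem_M24 rep_sigma (by decide +kernel)

/-- The packed centralizing permutation. -/
def mPack : ℕ := (List.range 24).foldr (fun i acc => (mPerm.getD i 0) <<< (5 * i) + acc) 0

theorem mSigma_mem : mSigma ∈ M24 :=
  rep_mem_M24 (p := mPack) (by unfold Concrete.Rep; decide +kernel) (by decide +kernel)

theorem mSigns_mem : mset mSigns ∈ codeSets :=
  (mset_mem_supports_iff (by decide +kernel)).2 (by decide +kernel)

/-- The automorphism of order seven. -/
noncomputable def f0 : Co0 := permHom ⟨sigma, sigma_mem⟩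

/-- A packed vector. -/
def vecP (n : ℕ) (p : GolayPt) : ℤ := (pget n (gidx p).val : ℤ) - 16

/-- The spanning vectors. -/
def basV (i : Fin 6) : GolayPt → ℤ := vecP (basL.getD i.val 0)

theorem basV_mem : ∀ i : Fin 6, inLeech (basV i) = true := by decide +kernel

/-- The spanning vectors, in the lattice. -/
def bas (i : Fin 6) : leechLattice := ⟨basV i, mem_leech_of_inLeech (basV_mem i)⟩

/-- The sum selected by the bits of `c`. -/
def combV (c : ℕ) (p : GolayPt) : ℤ :=
  (bif c.testBit 0 then basV 0 p else 0)
  + (bif c.testBit 1 then basV 1 p else 0) + (bif c.testBit 2 then basV 2 p else 0)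
  + (bif c.testBit 3 then basV 3 p else 0) + (bif c.testBit 4 then basV 4 p else 0)
  + (bif c.testBit 5 then basV 5 p else 0)

/-- A short vector in a class. -/
def repV (c : ℕ) : GolayPt → ℤ := vecP (repL.getD c 0)

/-- Congruence modulo twice the lattice. -/
def eqMod2 (x y : GolayPt → ℤ) : Bool :=
  bits24.all (fun i => (y (gpt (Fin.ofNat 24 i)) - x (gpt (Fin.ofNat 24 i))) % 2 == 0) &&
    inLeech (fun p => (y p - x p) / 2)

theorem eqMod2_spec {x y : GolayPt → ℤ} (h : eqMod2 x y = true) :
    ∃ w ∈ leechLattice, y - x = 2 • w := by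
  simp only [eqMod2, Bool.and_eq_true, List.all_eq_true, beq_iff_eq] at h
  refine ⟨_, mem_leech_of_inLeech h.2, funext fun p => ?_⟩
  have e := h.1 _ (mem_bits24.2 (gidx p).isLt)
  rw [show gpt (Fin.ofNat 24 (gidx p).val) = p by
    simp [Fin.ofNat, Nat.mod_eq_of_lt (gidx p).isLt, gpt_gidx]] at e
  simp only [Pi.sub_apply, Pi.smul_apply, nsmul_eq_mul]
  push_cast
  omega

theorem cls_eq_of_eqMod2 {x y : leechLattice} (h : eqMod2 (x : GolayPt → ℤ) (y : GolayPt → ℤ) = true) :
    cls x = cls y := mk_eq_iff.2 (eqMod2_spec h)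

/-- The signed image of a vector under a packed permutation given by its inverse. -/
def monoV (q m : ℕ) (x : GolayPt → ℤ) (p : GolayPt) : ℤ :=
  bif m.testBit (gidx p).val then -x (gpt (Fin.ofNat 24 (pget q (gidx p).val)))
  else x (gpt (Fin.ofNat 24 (pget q (gidx p).val)))

/-- The trace of a vector. -/
def traceV (x : GolayPt → ℤ) (p : GolayPt) : ℤ :=
  ((List.range 7).map fun k => x (gpt (Fin.ofNat 24 (pget (sPow k) (gidx p).val)))).sum

/-- The generators, as a list. -/
def gensList : List (GolayPt → ℤ) :=
  oddBase :: (basisMasks.map twoWord ++ bits24.map fun i => fourPair (gpt (Fin.ofNat 24 i)))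

end Cfsg.Lib.MonsterSeven
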