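import Cfsg.Agent.Lib.MonsterSeven.Fixed

/-!
Two centralizing maps and an inverting one, and their action on the first three spanning classes.
-/

set_option autoImplicit false
set_option maxRecDepth 100000

namespace Cfsg.Lib.MonsterSeven

open Cfsg Cfsg.Lib.Concrete Cfsg.Lib.MonsterLocal

/-- The first centralizing map. -/
noncomputable def uE : Co0 := matCo0 uMat u_ok

/-- The second centralizing map. -/
noncomputable def mE : Co0 := monoCo0 mSigma mSigma_mem (mset mSigns) mSigns_mem

/-- The inverting map. -/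
noncomputable def gE : Co0 := matCo0 gMat g_ok

theorem matFun_twist {L : List (List ℤ)} {τ : Equiv.Perm GolayPt}
    (h : ∀ i j : Fin 24, matEntry L (gidx (τ (gpt i))) (gidx (sigma (gpt j))) = matEntry L i j)
    (x : GolayPt → ℤ) (p : GolayPt) :
    matFun L (fun q => x (sigma.symm q)) p = matFun L x (τ.symm p) := by
  have hs : matDot L (fun q => x (sigma.symm q)) (gidx p) = matDot L x (gidx (τ.symm p)) := by
    have e : ∀ (i : Fin 24) (y : GolayPt → ℤ), matDot L y i = ∑ q, matEntry L i (gidx q) * y q := fun i y => by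
      rw [matDot_eq, sum_gpt fun q => matEntry L i (gidx q) * y q]
      simp only [gidx_gpt]
    rw [e, e, ← Equiv.sum_comp sigma]
    refine Finset.sum_congr rfl fun q _ => ?_
    have := h (gidx (τ.symm p)) (gidx q)
    rw [gpt_gidx, gpt_gidx, Equiv.apply_symm_apply] at this
    rw [this, Equiv.symm_apply_apply]
  simp only [matFun, hs]

theorem mul_f0_ext {g a : Co0} (h : ∀ v : leechLattice, g • (f0 • v) = a • (g • v)) : g * f0 = a * g :=
  Subtype.ext (Equiv.ext fun v => h v)

theorem f0_coe (v : leechLattice) :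
    ((f0 • v : leechLattice) : GolayPt → ℤ) = fun q => (v : GolayPt → ℤ) (sigma.symm q) :=
  funext fun q => by simpa using f0_pow_smul 1 v q

theorem f0_inv_coe (v : leechLattice) :
    ((f0⁻¹ • v : leechLattice) : GolayPt → ℤ) = fun q => (v : GolayPt → ℤ) (sigma q) :=
  funext fun q => by
    show ((((permHom ⟨sigma, sigma_mem⟩)⁻¹) • v : leechLattice) : GolayPt → ℤ) q = _
    rw [← map_inv, permHom_smul]
    rfl

theorem uE_comm : uE * f0 = f0 * uE := by
  refine mul_f0_ext fun v => Subtype.ext ?_
  rw [f0_coe]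
  show matFun uMat (f0 • v : leechLattice) = fun q => matFun uMat v (sigma.symm q)
  rw [f0_coe]
  exact funext (matFun_twist u_comm _)

theorem gE_inv : gE * f0 = f0⁻¹ * gE := by
  refine mul_f0_ext fun v => Subtype.ext ?_
  rw [f0_inv_coe]
  show matFun gMat (f0 • v : leechLattice) = fun q => matFun gMat v (sigma q)
  rw [f0_coe]
  exact funext fun p => (matFun_twist (τ := sigma.symm) g_inv _ p).trans (by rw [Equiv.symm_symm])

theorem mE_comm : mE * f0 = f0 * mE := by
  refine mul_f0_ext fun v => Subtype.ext (funext fun p => ?_)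
  rw [f0_coe]
  show ((monoCo0 mSigma mSigma_mem _ mSigns_mem • (f0 • v) : leechLattice) : GolayPt → ℤ) p =
    ((monoCo0 mSigma mSigma_mem _ mSigns_mem • v : leechLattice) : GolayPt → ℤ) (sigma.symm p)
  rw [monoCo0_smul, monoCo0_smul, f0_coe]
  obtain ⟨h1, -⟩ := m_comm (mSigma.symm (sigma.symm p))
  obtain ⟨-, h2⟩ := m_comm (sigma.symm p)
  rw [Equiv.apply_symm_apply, Equiv.apply_symm_apply] at h1
  rw [Equiv.apply_symm_apply] at h2
  have h3 : mSigma.symm (sigma.symm p) = sigma.symm (mSigma.symm p) := by
    conv_rhs => rw [← h1, Equiv.symm_apply_apply, Equiv.symm_apply_apply]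
  simp only [signedPerm, h2, h3]

/-- Embedding the bit vectors of length three. -/
def ext3 : (Fin 3 → ZMod 2) →+ (Fin 6 → ZMod 2) :=
  AddMonoidHom.mk' (fun v => ![v 0, v 1, v 2, 0, 0, 0]) fun a b => by
    funext i; fin_cases i <;> simp

/-- The classes of the first space. -/
noncomputable def psi : (Fin 3 → ZMod 2) →+ V := phi.comp ext3

theorem psi_injective : Function.Injective psi := phi_injective.comp (by
  intro a b h
  funext i
  fin_cases i
  · exact congrFun h 0
  · exact congrFun h 1
  · exact congrFun h 2)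

theorem code_ext3 : ∀ v : Fin 3 → ZMod 2,
    code (ext3 v) = code v ∧ code v < 8 ∧ bits 3 (code v) = v ∧ (v ≠ 0 → code v ≠ 0) := by decide +kernel

theorem ext3_bits : ∀ a : Fin 8, ext3 (bits 3 a.val) = bits 6 a.val := by decide +kernel

theorem psi_code (v : Fin 3 → ZMod 2) : psi v = cls (combL (code v)) := by
  rw [psi, AddMonoidHom.comp_apply, phi_code, (code_ext3 v).1]

theorem psi_top : psi (bits 3 1) = cls top := by
  rw [psi_code, show code (bits 3 1) = 1 by decide +kernel]
  refine congrArg cls (Subtype.ext ?_)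
  rw [combL_coe]
  show combV 1 = Pi.single none 8
  decide +kernel

/-- The linear map with listed images of the unit vectors. -/
def colAct (cols : List ℕ) (v : Fin 3 → ZMod 2) : Fin 3 → ZMod 2 := fun i =>
  v 0 * bits 3 (cols.getD 0 0) i + v 1 * bits 3 (cols.getD 1 0) i + v 2 * bits 3 (cols.getD 2 0) i

theorem col_check : ∀ v : Fin 3 → ZMod 2,
    eqMod2 (matFun uMat (combV (code v))) (combV (code (colAct [2, 5, 1] v))) = true ∧
    eqMod2 (signedPerm mSigma (mset mSigns) (combV (code v))) (combV (code (colAct [1, 5, 2] v))) = true := by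
  decide +kernel

theorem uE_psi (v : Fin 3 → ZMod 2) : qact uE (psi v) = psi (colAct [2, 5, 1] v) := by
  rw [psi_code, psi_code, qact_cls]
  refine cls_eq_of_eqMod2 ?_
  rw [uE, matCo0_apply, combL_coe, combL_coe]
  exact (col_check v).1

theorem mE_psi (v : Fin 3 → ZMod 2) : qact mE (psi v) = psi (colAct [1, 5, 2] v) := by
  rw [psi_code, psi_code, qact_cls]
  refine cls_eq_of_eqMod2 ?_
  rw [mE, monoCo0_smul, combL_coe, combL_coe]
  exact (col_check v).2

theorem gE_psi {a : ℕ} (ha : a < 8) (h0 : a ≠ 0) : qact gE (psi (bits 3 a)) = phi (bits 6 (invImg.getD a 0)) := by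
  rw [psi, AddMonoidHom.comp_apply, ext3_bits ⟨a, ha⟩, phi_bits, phi_bits, qact_cls]
  refine cls_eq_of_eqMod2 ?_
  rw [gE, matCo0_apply, combL_coe, combL_coe]
  have h := List.all_eq_true.1 image_check.2.2 a (List.mem_range.2 ha)
  simpa [h0] using h

/-- The element of a word, bit-coded with a leading one. -/
noncomputable def wordE : ℕ → ℕ → Co0
  | 0, _ => 1
  | n + 1, w => bif w ≤ 1 then 1 else (bif w.testBit 0 then mE else uE) * wordE n (w / 2)

/-- The action of a word. -/
def wordAct : ℕ → ℕ → (Fin 3 → ZMod 2) → Fin 3 → ZMod 2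
  | 0, _, v => v
  | n + 1, w, v =>
    bif w ≤ 1 then v else colAct (bif w.testBit 0 then [1, 5, 2] else [2, 5, 1]) (wordAct n (w / 2) v)

theorem wordE_psi : ∀ (n w : ℕ) (v : Fin 3 → ZMod 2), qact (wordE n w) (psi v) = psi (wordAct n w v)
  | 0, _, v => qact_one _
  | n + 1, w, v => by
    simp only [wordE, wordAct]
    cases decide (w ≤ 1)
    · cases w.testBit 0
      · simp only [cond_false, qact_mul, wordE_psi n, uE_psi]
      · simp only [cond_false, cond_true, qact_mul, wordE_psi n, mE_psi]
    · exact qact_one _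

theorem wordE_comm : ∀ n w : ℕ, Commute (wordE n w) f0
  | 0, _ => Commute.one_left _
  | n + 1, w => by
    simp only [wordE]
    cases decide (w ≤ 1)
    · cases w.testBit 0
      · exact Commute.mul_left uE_comm (wordE_comm n _)
      · exact Commute.mul_left mE_comm (wordE_comm n _)
    · exact Commute.one_left _

/-- A determinant. -/
def det3 (a b c : Fin 3 → ZMod 2) : ZMod 2 :=
  a 0 * b 1 * c 2 + a 0 * b 2 * c 1 + a 1 * b 0 * c 2 + a 1 * b 2 * c 0 + a 2 * b 0 * c 1 + a 2 * b 1 * c 0

theorem word_table : (List.range 8).all (fun a => (List.range 8).all fun b => (List.range 8).all fun c =>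
    decide (det3 (bits 3 a) (bits 3 b) (bits 3 c) = 0) || (List.range 8).all fun d =>
      decide (wordAct 12 (wordTbl.getD (a + 8 * b + 64 * c) 0) (bits 3 d) = colAct [a, b, c] (bits 3 d))) = true := by
  decide +kernel

theorem trans_table : (List.range 8).all (fun a => a == 0 || wordTbl.any fun w =>
    decide (wordAct 12 w (bits 3 1) = bits 3 a)) = true := by
  decide +kernel

end Cfsg.Lib.MonsterSeven
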