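import Cfsg.Agent.Lib.MonsterSeven.Fixed

/-!
The permutations of the Mathieu group normalizing the group of order seven.
-/

set_option autoImplicit false
set_option maxRecDepth 100000

namespace Cfsg.Lib.MonsterSeven

open Cfsg Cfsg.Lib.Concrete
open scoped Pointwise

theorem smul_mset_fun {g : Equiv.Perm GolayPt} {f : ℕ → ℕ} (hf : ∀ x : GolayPt, (gidx (g x)).val = f (gidx x).val)
    (m : ℕ) : g • mset m = mset (orMask bits24 (fun i => m.testBit i) f) := by
  ext y
  rw [Finset.mem_smul_finset, mem_mset, testBit_orMask]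
  constructor
  · rintro ⟨x, hx, rfl⟩
    exact ⟨(gidx x).val, mem_bits24.2 (gidx x).isLt, mem_mset.1 hx, (hf x).symm⟩
  · rintro ⟨i, hi, hm, hp⟩
    refine ⟨gpt ⟨i, mem_bits24.1 hi⟩, by simpa [gidx_gpt] using hm, gidx_injective (Fin.ext ?_)⟩
    show (gidx (g (gpt ⟨i, mem_bits24.1 hi⟩))).val = _
    rw [hf, gidx_gpt]; exact hp

theorem fix_table : [1, 6].all (fun e => bits24.all fun i => (pget (sPow e) i == i) == fixPts.contains i) = true := by
  decide +kernel

theorem same_table : bits24.all (fun x => bits24.all fun y => !sameOrb x y ||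
    (List.range 7).any fun k => pget (sPow k) x == y) = true := by
  decide +kernel

theorem rep_table : [3, 4, 5].all (fun j => [3, 4, 5].all fun j' => j == j' ||
    (List.range 7).all fun k => pget (sPow k) (orbRep j) != orbRep j') = true ∧
    ([0, 1, 2, 3, 4, 5].all fun j => decide (orbRep j < 24) && (decide (j < 3) == fixPts.contains (orbRep j))) = true ∧
    [orbRep 0, orbRep 1, orbRep 2].Nodup := by
  decide +kernel

theorem mul_seven {e : ℕ} (he : e ∈ [1, 6]) (k : ℕ) : e * (e * k % 7) % 7 = k % 7 := by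
  simp only [List.mem_cons, List.not_mem_nil, or_false] at he
  rcases he with rfl | rfl <;> omega

/-- The normalizer in the Mathieu group inverts nothing, and its elements are the listed ones. -/
theorem normalizer_perm {g : Equiv.Perm GolayPt} (hg : g ∈ M24) {e : ℕ} (he : e ∈ [1, 6])
    (h : ∀ x, g (sigma x) = (sigma ^ e) (g x)) : e = 1 ∧ ∃ pq ∈ centPerms, Concrete.Rep g pq.1 := by
  have hpow : ∀ k x, g ((sigma ^ k) x) = (sigma ^ (e * k % 7)) (g x) := by
    intro k
    induction k with
    | zero => intro x; simp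
    | succ k ih =>
      intro x
      rw [pow_succ, Equiv.Perm.mul_apply, ih, h, ← Equiv.Perm.mul_apply, ← pow_add, pow_eq_pow_mod _ sigma_pow_seven]
      congr 2
      rw [Nat.mul_succ]; omega
  obtain ⟨n, hn⟩ : ∃ n : ℕ → ℕ, ∀ j, (gidx (g (gpt (Fin.ofNat 24 (orbRep j))))).val = n j :=
    ⟨_, fun _ => rfl⟩
  have hnlt : ∀ j, n j < 24 := fun j => hn j ▸ (gidx _).isLt
  have hgn : ∀ j, g (gpt (Fin.ofNat 24 (orbRep j))) = gpt (Fin.ofNat 24 (n j)) := fun j => by
    rw [← hn j, gpt_val]
  have hreplt : ∀ j ∈ [0, 1, 2, 3, 4, 5], orbRep j < 24 := fun j hj => by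
    have := List.all_eq_true.1 rep_table.2.1 j hj
    simp only [Bool.and_eq_true, decide_eq_true_eq] at this
    exact this.1
  have hfixed : ∀ j ∈ [0, 1, 2, 3, 4, 5], (n j ∈ fixPts ↔ j < 3) := by
    intro j hj
    have t := List.all_eq_true.1 rep_table.2.1 j hj
    simp only [Bool.and_eq_true, decide_eq_true_eq, beq_iff_eq] at t
    have t1 := List.all_eq_true.1 (List.all_eq_true.1 fix_table e he) (n j) (mem_bits24.2 (hnlt j))
    have t2 := List.all_eq_true.1 (List.all_eq_true.1 fix_table 1 (by simp)) (orbRep j) (mem_bits24.2 t.1)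
    simp only [beq_iff_eq] at t1 t2
    rw [← List.contains_iff_mem, ← t1, ← decide_eq_true_eq (p := j < 3), t.2, ← t2, beq_iff_eq, beq_iff_eq]
    have he7 : e < 7 := by simp only [List.mem_cons, List.not_mem_nil, or_false] at he; omega
    set P : GolayPt := gpt (Fin.ofNat 24 (orbRep j)) with hP
    have e1 : (gidx P).val = orbRep j := by simp [hP, gidx_gpt, Fin.ofNat, Nat.mod_eq_of_lt t.1]
    have r1 := rep_pow e he7 (g P)
    have r2 := rep_sigma P
    rw [hn j] at r1
    rw [e1] at r2
    rw [← r1, ← r2, ← h, ← hn j, ← e1]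
    rw [gpt_val]
    constructor
    · intro a; rw [g.injective (gidx_injective (Fin.ext a))]
    · intro a; rw [gidx_injective (Fin.ext a)]
  have hne : ∀ i j, i ∈ [0, 1, 2] → j ∈ [0, 1, 2] → n i = n j → orbRep i = orbRep j := by
    intro i j hi hj heq
    have hi' : i ∈ [0, 1, 2, 3, 4, 5] := by revert hi; simp; omega
    have hj' : j ∈ [0, 1, 2, 3, 4, 5] := by revert hj; simp; omega
    have := congrArg Fin.val (congrArg gidx (g.injective ((hgn i).trans ((by rw [heq] : _ = _).trans (hgn j).symm))))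
    simpa [gidx_gpt, Fin.ofNat, Nat.mod_eq_of_lt (hreplt i hi'), Nat.mod_eq_of_lt (hreplt j hj')] using this
  have horb : ∀ i j, i ∈ [3, 4, 5] → j ∈ [3, 4, 5] → i ≠ j → sameOrb (n i) (n j) = false := by
    intro i j hi hj hij
    rw [Bool.eq_false_iff]
    intro hs
    have t := List.all_eq_true.1 (List.all_eq_true.1 same_table (n i) (mem_bits24.2 (hnlt i))) (n j)
      (mem_bits24.2 (hnlt j))
    rw [hs, Bool.not_true, Bool.false_or] at t
    obtain ⟨k, hk, hkv⟩ := List.any_eq_true.1 t
    have hk7 := List.mem_range.1 hk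
    have e1 : g ((sigma ^ (e * k % 7)) (gpt (Fin.ofNat 24 (orbRep i)))) = g (gpt (Fin.ofNat 24 (orbRep j))) := by
      rw [hpow, mul_seven he, Nat.mod_eq_of_lt hk7, hgn i, hgn j, rep_apply' (rep_pow k hk7)]
      rw [show (gidx (gpt (Fin.ofNat 24 (n i)))).val = n i by simp [gidx_gpt, Fin.ofNat, Nat.mod_eq_of_lt (hnlt i)]]
      rw [beq_iff_eq.1 hkv]
    have e2 := congrArg Fin.val (congrArg gidx (g.injective e1))
    rw [rep_pow (e * k % 7) (Nat.mod_lt _ (by norm_num))] at e2
    have hi' : i ∈ [0, 1, 2, 3, 4, 5] := by revert hi; simp; omega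
    have hj' : j ∈ [0, 1, 2, 3, 4, 5] := by revert hj; simp; omega
    simp [gidx_gpt, Fin.ofNat, Nat.mod_eq_of_lt (hreplt i hi'), Nat.mod_eq_of_lt (hreplt j hj')] at e2
    have t2 := List.all_eq_true.1 (List.all_eq_true.1 rep_table.1 i hi) j hj
    simp only [Bool.or_eq_true, beq_iff_eq, hij, false_or] at t2
    have := List.all_eq_true.1 t2 (e * k % 7) (List.mem_range.2 (Nat.mod_lt _ (by norm_num)))
    simp [e2] at this
  have hmov : ∀ j ∈ [3, 4, 5], n j ∈ movPts := by
    intro j hj
    have hj' : j ∈ [0, 1, 2, 3, 4, 5] := by revert hj; simp; omega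
    have t := List.all_eq_true.1 orb_check (n j) (mem_bits24.2 (hnlt j))
    simp only [Bool.and_eq_true] at t
    have hf : ¬ n j ∈ fixPts := fun c => by have := (hfixed j hj').1 c; revert hj; simp; omega
    have t5 := t.2
    rw [show fixPts.contains (n j) = false by simpa using hf] at t5
    simpa using t5
  have hleaf : candLeaf e [n 0, n 1, n 2, n 3, n 4, n 5] = true := by
    have t := List.all_eq_true.1 cand_check e he
    have t1 := List.all_eq_true.1 (List.all_eq_true.1 t (n 0) ((hfixed 0 (by simp)).2 (by norm_num))) (n 1) ((hfixed 1 (by simp)).2 (by norm_num))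
    simp only [candAll, Bool.or_eq_true, beq_iff_eq] at t1
    have hd := rep_table.2.2
    simp at hd
    rcases t1 with t1 | t1
    · exact absurd (hne 0 1 (by simp) (by simp) t1) hd.1.1
    have t2 := List.all_eq_true.1 t1 (n 2) ((hfixed 2 (by simp)).2 (by norm_num))
    simp only [Bool.or_eq_true, beq_iff_eq] at t2
    rcases t2 with (t2 | t2) | t2
    · exact absurd (hne 0 2 (by simp) (by simp) t2.symm) hd.1.2
    · exact absurd (hne 1 2 (by simp) (by simp) t2.symm) hd.2
    have t3 := List.all_eq_true.1 (List.all_eq_true.1 t2 (n 3) (hmov 3 (by simp))) (n 4) (hmov 4 (by simp))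
    simp only [horb 3 4 (by simp) (by simp) (by norm_num), Bool.false_or] at t3
    have t4 := List.all_eq_true.1 t3 (n 5) (hmov 5 (by simp))
    simpa [horb 3 5 (by simp) (by simp) (by norm_num), horb 4 5 (by simp) (by simp) (by norm_num)] using t4
  have hval : ∀ x : GolayPt, (gidx (g x)).val = candVal e [n 0, n 1, n 2, n 3, n 4, n 5] (gidx x).val := by
    intro x
    have t := List.all_eq_true.1 orb_check _ (mem_bits24.2 (gidx x).isLt)
    simp only [Bool.and_eq_true, decide_eq_true_eq, beq_iff_eq] at t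
    obtain ⟨⟨⟨⟨tj, tk⟩, tv⟩, -⟩, -⟩ := t
    set j := pget orbJ (gidx x).val with hj
    set k := pget orbK (gidx x).val with hk
    have hjm : j ∈ [0, 1, 2, 3, 4, 5] := by simp; omega
    have hx : x = (sigma ^ k) (gpt (Fin.ofNat 24 (orbRep j))) := by
      rw [rep_apply' (rep_pow k tk), show (gidx (gpt (Fin.ofNat 24 (orbRep j)))).val = orbRep j by
        simp [gidx_gpt, Fin.ofNat, Nat.mod_eq_of_lt (hreplt j hjm)], tv, gpt_val]
    conv_lhs => rw [hx, hpow, rep_pow _ (Nat.mod_lt _ (by norm_num)), hn]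
    rw [candVal, ← hj, ← hk]
    congr 1
    clear_value j
    interval_cases j <;> rfl
  simp only [candLeaf, Bool.or_eq_true, Bool.not_eq_true', Bool.and_eq_true, beq_iff_eq] at hleaf
  rcases hleaf with hbad | ⟨he1, hany⟩
  · exfalso
    obtain ⟨b, hb, hb'⟩ := List.all_eq_false.1 hbad
    refine hb' ?_
    have hs : mset b ∈ supports (golayCode : Set (GolayPt → ZMod 2)) := by
      have hb2 := List.all_eq_true.1 basis_mem_octads b hb
      simp only [Bool.and_eq_true, decide_eq_true_eq] at hb2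
      exact (mset_mem_supports_iff hb2.1.2).2 hb2.1.1
    have hs' := mem_M24_iff.1 hg _ hs
    rw [smul_mset_fun hval] at hs'
    refine (mset_mem_supports_iff (orMask_lt _ _ _ fun i hi _ => ?_)).1 hs'
    have := hval (gpt ⟨i, mem_bits24.1 hi⟩)
    rw [gidx_gpt] at this
    exact this ▸ (gidx _).isLt
  · obtain ⟨pq, hpq, hv⟩ := List.any_eq_true.1 hany
    refine ⟨he1, pq, hpq, fun x => ?_⟩
    rw [hval x, beq_iff_eq.1 (List.all_eq_true.1 hv _ (mem_bits24.2 (gidx x).isLt))]

end Cfsg.Lib.MonsterSeven
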