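import Cfsg.Agent.Lib.MonsterSeven.Elems
import Cfsg.Agent.Lib.MonsterSeven.PermNorm

/-!
The centralizer of the automorphism of order seven acts on three classes as the special linear group, with the
group of order seven and the centre as kernel.
-/

set_option autoImplicit false
set_option maxRecDepth 100000

namespace Cfsg.Lib.MonsterSeven

open Cfsg Cfsg.Lib.Concrete Cfsg.Lib.MonsterLocal

/-- The centralizer. -/
noncomputable abbrev cenF : Subgroup Co0 := Subgroup.centralizer ({f0} : Set Co0)

theorem mem_cenF {g : Co0} : g ∈ cenF ↔ Commute g f0 := Subgroup.mem_centralizer_singleton_iff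

theorem fix_of_comm {g : Co0} (hg : Commute g f0) {q : V} (hq : q ∈ fixSet f0) : qact g q ∈ fixSet f0 := by
  show qact f0 (qact g q) = qact g q
  rw [← qact_mul, ← hg.eq, qact_mul, show qact f0 q = q from hq]

theorem sixty_qact {g : Co0} {q : V} (hq : q ∈ sixtySet) : qact g q ∈ sixtySet := by
  obtain ⟨v, hv, rfl⟩ := hq
  exact ⟨g • v, (co0_sqNorm g v).trans hv, rfl⟩

theorem top_sixty : cls top ∈ sixtySet := ⟨top, (stdCross_subset (e8_mem_stdCross none)).2, rfl⟩

theorem f0_psi (v : Fin 3 → ZMod 2) : qact f0 (psi v) = psi v := phi_fixed _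

theorem exists_trans {a : ℕ} (ha : a < 8) (h0 : a ≠ 0) :
    ∃ x : Co0, Commute x f0 ∧ qact x (cls top) = psi (bits 3 a) := by
  have h := List.all_eq_true.1 trans_table a (List.mem_range.2 ha)
  simp only [Bool.or_eq_true, beq_iff_eq, h0, false_or] at h
  obtain ⟨w, -, hw⟩ := List.any_eq_true.1 h
  exact ⟨wordE 12 w, wordE_comm _ _, by rw [← psi_top, wordE_psi, of_decide_eq_true hw]⟩

theorem monomial_of_mem {h : Co0} (hh : h ∈ crossStab) :
    ∃ σ : Equiv.Perm GolayPt, σ ∈ M24 ∧ ∃ c ∈ codeSets,
      ∀ v : leechLattice, ((h • v : leechLattice) : GolayPt → ℤ) = signedPerm σ c v := by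
  obtain ⟨σ, c, hc, e⟩ := crossStab_monomial ⟨h, hh⟩
  exact ⟨σ.1, σ.2, c, hc, e⟩

/-- Nothing in the stabiliser of the standard cross inverts the automorphism of order seven. -/
theorem no_invert {h : Co0} (hc : h ∈ crossStab) (hinv : h * f0 = f0⁻¹ * h) : False := by
  obtain ⟨σ, hσ, c, -, hv⟩ := monomial_of_mem hc
  have hperm : ∀ p, σ (sigma p) = (sigma ^ 6) (σ p) := by
    intro p
    have h1 := congrArg (fun y : leechLattice => (y : GolayPt → ℤ))
      (show h • (f0 • e8 p) = f0⁻¹ • (h • e8 p) by rw [← mul_smul, hinv, mul_smul])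
    simp only [hv, f0_coe, f0_inv_coe] at h1
    have h2 := congrFun h1 (σ (sigma p))
    simp only [signedPerm, Equiv.symm_apply_apply, e8, Pi.single_eq_same] at h2
    have h6 : (sigma ^ 6) (σ p) = sigma.symm (σ p) := by
      rw [Equiv.eq_symm_apply, ← Equiv.Perm.mul_apply, ← pow_succ', sigma_pow_seven]
      rfl
    rw [h6, Equiv.eq_symm_apply]
    by_contra hne
    rw [Pi.single_eq_of_ne (show σ.symm (sigma (σ (sigma p))) ≠ p from fun e =>
      hne ((Equiv.symm_apply_eq _).1 e))] at h2
    split at h2 <;> omega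
  exact absurd (normalizer_perm hσ (e := 6) (by simp) hperm).1 (by norm_num)

/-- The centralizer sends the top class into the first space. -/
theorem top_mem {g : Co0} (hg : Commute g f0) : qact g (cls top) ∈ Set.range psi := by
  have hq : qact g (cls top) ∈ fixSet f0 := fix_of_comm hg (by rw [← psi_top]; exact f0_psi _)
  rw [fixSet_eq] at hq
  obtain ⟨u, hu⟩ := hq
  have h64 : code u ∈ sixtyFour := (phi_mem_sixty u).1 (hu ▸ sixty_qact top_sixty)
  have t := List.all_eq_true.1 sixtyFour_check.2.2.1 _ h64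
  simp only [Bool.and_eq_true, Bool.or_eq_true, decide_eq_true_eq, List.any_eq_true, List.mem_range, beq_iff_eq] at t
  rcases t.2 with h8 | ⟨a, ha8, ha0, ha⟩
  · refine ⟨bits 3 (code u), ?_⟩
    rw [psi, AddMonoidHom.comp_apply, ext3_bits ⟨_, h8⟩, (code_bits u).2, hu]
  · exfalso
    obtain ⟨x, hx, hxt⟩ := exists_trans ha8 ha0.ne'
    have hgq : qact g (cls top) = qact (gE * x) (cls top) := by
      rw [qact_mul, hxt, gE_psi ha8 ha0.ne', ha, (code_bits u).2, hu]
    set h := (gE * x)⁻¹ * g with hh
    have hc : h ∈ crossStab := mem_crossStab_iff_cls.2 (by rw [hh, qact_mul, hgq, qact_inv_self])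
    have hinv : h * f0 = f0⁻¹ * h := by
      have e1 : gE * x * f0⁻¹ = f0 * (gE * x) := by
        rw [mul_assoc, hx.inv_right.eq, ← mul_assoc]
        calc gE * f0⁻¹ * x = f0 * (f0⁻¹ * gE) * f0⁻¹ * x := by group
          _ = f0 * (gE * f0) * f0⁻¹ * x := by rw [gE_inv]
          _ = f0 * (gE * x) := by group
      rw [hh, mul_assoc, hg.eq]
      calc (gE * x)⁻¹ * (f0 * g) = (gE * x)⁻¹ * (f0 * (gE * x)) * ((gE * x)⁻¹ * g) := by group
        _ = (gE * x)⁻¹ * (gE * x * f0⁻¹) * ((gE * x)⁻¹ * g) := by rw [e1]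
        _ = f0⁻¹ * ((gE * x)⁻¹ * g) := by group
    exact no_invert hc hinv

theorem psi_mem {g : Co0} (hg : Commute g f0) (v : Fin 3 → ZMod 2) : qact g (psi v) ∈ Set.range psi := by
  by_cases hv : v = 0
  · exact ⟨0, by rw [hv, map_zero, map_zero]⟩
  obtain ⟨hc, h8, hb, h0⟩ := code_ext3 v
  obtain ⟨x, hx, hxt⟩ := exists_trans h8 (h0 hv)
  rw [← hb, ← hxt, ← qact_mul]
  exact top_mem (hg.mul_left hx)

/-- The preimage of an image. -/
noncomputable def imgF (g : cenF) (v : Fin 3 → ZMod 2) : Fin 3 → ZMod 2 :=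
  Classical.choose (psi_mem (mem_cenF.1 g.2) v)

theorem imgF_spec (g : cenF) (v : Fin 3 → ZMod 2) : psi (imgF g v) = qact g.1 (psi v) :=
  Classical.choose_spec (psi_mem (mem_cenF.1 g.2) v)

/-- The induced map on the first space. -/
noncomputable def linF (g : cenF) : (Fin 3 → ZMod 2) →ₗ[ZMod 2] (Fin 3 → ZMod 2) :=
  (AddMonoidHom.mk' (imgF g) fun a b => psi_injective (by
    simp only [map_add, imgF_spec])).toZModLinearMap 2

theorem linF_spec (g : cenF) (v : Fin 3 → ZMod 2) : psi (linF g v) = qact g.1 (psi v) := imgF_spec g v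

theorem linF_mul (g h : cenF) : linF (g * h) = (linF g).comp (linF h) :=
  LinearMap.ext fun v => psi_injective (by
    rw [LinearMap.comp_apply, linF_spec, linF_spec, linF_spec, Subgroup.coe_mul, qact_mul])

/-- The matrices of the induced maps. -/
noncomputable def rhoM : cenF →* Matrix (Fin 3) (Fin 3) (ZMod 2) where
  toFun g := LinearMap.toMatrix' (linF g)
  map_one' := by
    rw [show linF 1 = LinearMap.id from LinearMap.ext fun v => psi_injective (by
      rw [linF_spec, OneMemClass.coe_one, qact_one, LinearMap.id_apply]), LinearMap.toMatrix'_id]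
  map_mul' g h := by rw [linF_mul, LinearMap.toMatrix'_comp]

theorem rhoM_apply (g : cenF) (v : Fin 3 → ZMod 2) : (rhoM g).mulVec v = linF g v :=
  LinearMap.toMatrix'_mulVec (linF g) v

theorem det_rhoM (g : cenF) : (rhoM g).det = 1 := by
  have h : (rhoM g).det * (rhoM g⁻¹).det = 1 := by
    rw [← Matrix.det_mul, ← map_mul, mul_inv_cancel, map_one, Matrix.det_one]
  revert h
  generalize (rhoM g).det = a
  generalize (rhoM g⁻¹).det = b
  revert a b
  decide

/-- The representation on the first space. -/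
noncomputable def rho : cenF →* Matrix.SpecialLinearGroup (Fin 3) (ZMod 2) :=
  MonoidHom.mk' (fun g => ⟨rhoM g, det_rhoM g⟩) fun g h => Subtype.ext (map_mul rhoM g h)

theorem rho_eq_iff {g : cenF} {M : Matrix.SpecialLinearGroup (Fin 3) (ZMod 2)} :
    rho g = M ↔ ∀ v, qact g.1 (psi v) = psi ((M : Matrix (Fin 3) (Fin 3) (ZMod 2)).mulVec v) := by
  constructor
  · rintro rfl v
    rw [← linF_spec]
    exact congrArg psi (rhoM_apply g v).symm
  · intro h
    refine Subtype.ext ?_
    show LinearMap.toMatrix' (linF g) = _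
    rw [← (LinearMap.toMatrix' (R := ZMod 2) (m := Fin 3) (n := Fin 3)).apply_symm_apply
      (M : Matrix (Fin 3) (Fin 3) (ZMod 2))]
    refine congrArg _ (LinearMap.ext fun v => psi_injective ?_)
    rw [linF_spec, h]
    rfl

theorem colAct_eq : ∀ v : Fin 3 → ZMod 2, ∀ c : Fin 8, bits 3 (code (bits 3 c.val)) = bits 3 c.val ∧
    bits 3 (code v) = v := by decide +kernel

theorem det3_eq (a : Matrix (Fin 3) (Fin 3) (ZMod 2)) :
    a.det = det3 (fun i => a i 0) (fun i => a i 1) (fun i => a i 2) := by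
  rw [Matrix.det_fin_three, det3]
  have hs : ∀ x : ZMod 2, -x = x := by decide
  simp only [sub_eq_add_neg, hs]
  ring

theorem rho_surjective : Function.Surjective rho := by
  intro M
  set A : Matrix (Fin 3) (Fin 3) (ZMod 2) := (M : Matrix (Fin 3) (Fin 3) (ZMod 2)) with hA
  set col : Fin 3 → Fin 3 → ZMod 2 := fun j i => A i j with hcol
  have hb : ∀ j, bits 3 (code (col j)) = col j := fun j => (code_ext3 _).2.2.1
  have hlt : ∀ j, code (col j) ∈ List.range 8 := fun j => List.mem_range.2 (code_ext3 _).2.1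
  have t := List.all_eq_true.1 (List.all_eq_true.1 (List.all_eq_true.1 word_table _ (hlt 0)) _ (hlt 1)) _ (hlt 2)
  have hd : det3 (col 0) (col 1) (col 2) = 1 := by rw [← det3_eq]; exact M.2
  simp only [hb, hd, Bool.or_eq_true, decide_eq_true_eq, one_ne_zero, false_or] at t
  refine ⟨⟨wordE 12 (wordTbl.getD (code (col 0) + 8 * code (col 1) + 64 * code (col 2)) 0),
    mem_cenF.2 (wordE_comm 12 _)⟩, rho_eq_iff.2 fun v => ?_⟩
  rw [wordE_psi]
  refine congrArg psi ?_
  have := of_decide_eq_true (List.all_eq_true.1 t (code v) (List.mem_range.2 (code_ext3 v).2.1))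
  rw [(code_ext3 v).2.2.1] at this
  rw [this]
  funext i
  simp only [colAct, List.getD_cons_zero, List.getD_cons_succ, hb, Matrix.mulVec, dotProduct, Fin.sum_univ_three]
  simp only [hcol]
  ring

theorem mset_univ : mset 16777215 = Finset.univ := by decide +kernel

/-- An element acting trivially on the first space is a power of the given one, up to the centre. -/
theorem ker_rho {g : cenF} (hg : rho g = 1) : g.1 ∈ Subgroup.center Co0 ⊔ Subgroup.zpowers f0 := by
  have hfix : ∀ v, qact g.1 (psi v) = psi v := fun v => by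
    rw [rho_eq_iff.1 hg v, Matrix.SpecialLinearGroup.coe_one, Matrix.one_mulVec]
  have hc : g.1 ∈ crossStab := mem_crossStab_iff_cls.2 (by rw [← psi_top]; exact hfix _)
  obtain ⟨σ, hσ, c, hcc, hv⟩ := monomial_of_mem hc
  obtain ⟨m, hm, rfl⟩ := mem_supports_iff.1 hcc
  have hcomm : Commute g.1 f0 := mem_cenF.1 g.2
  have hrel : ∀ p : GolayPt, σ (sigma p) = sigma (σ p) ∧ (sigma p ∈ mset m ↔ p ∈ mset m) := by
    have key : ∀ p : GolayPt, σ (sigma p) = sigma (σ p) ∧ (sigma (σ p) ∈ mset m ↔ σ p ∈ mset m) := by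
      intro p
      have h1 := congrArg (fun y : leechLattice => (y : GolayPt → ℤ))
        (show g.1 • (f0 • e8 p) = f0 • (g.1 • e8 p) by rw [← mul_smul, hcomm.eq, mul_smul])
      simp only [hv, f0_coe] at h1
      have h2 := congrFun h1 (σ (sigma p))
      simp only [signedPerm, Equiv.symm_apply_apply, e8, Pi.single_eq_same] at h2
      have heq : σ (sigma p) = sigma (σ p) := by
        by_contra hne
        rw [Pi.single_eq_of_ne (show σ.symm (sigma.symm (σ (sigma p))) ≠ p from fun e =>
          hne ((Equiv.symm_apply_eq _).1 ((Equiv.symm_apply_eq _).1 e |>.symm ▸ rfl)))] at h2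
        split at h2 <;> omega
      refine ⟨heq, ?_⟩
      rw [heq, Equiv.symm_apply_apply, Equiv.symm_apply_apply, Pi.single_eq_same] at h2
      by_cases a : sigma (σ p) ∈ mset m <;> by_cases b : σ p ∈ mset m <;>
        simp only [a, b, if_true, if_false] at h2 ⊢ <;> omega
    intro p
    refine ⟨(key p).1, ?_⟩
    have := (key (σ.symm p)).2
    rwa [Equiv.apply_symm_apply] at this
  obtain ⟨-, pq, hpq, hrep⟩ := normalizer_perm hσ (e := 1) (by simp)
    (fun p => by rw [pow_one]; exact (hrel p).1)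
  have hmc : m ∈ fixCodes := by
    have t := List.all_eq_true.1 codes_check m hm
    have hall : bits24.all (fun i => m.testBit (pget (sPow 1) i) == m.testBit i) = true := by
      refine List.all_eq_true.2 fun i hi => ?_
      have h1 := (hrel (gpt ⟨i, mem_bits24.1 hi⟩)).2
      rw [mem_mset, mem_mset, rep_sigma, gidx_gpt] at h1
      rw [beq_iff_eq, Bool.eq_iff_iff]
      exact h1
    rw [hall] at t
    simpa using t
  have hq : ∀ p : GolayPt, σ.symm p = gpt (Fin.ofNat 24 (pget pq.2 (gidx p).val)) := by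
    intro p
    have t := List.all_eq_true.1 (List.all_eq_true.1 perm_check pq hpq) _ (mem_bits24.2 (gidx p).isLt)
    simp only [Bool.and_eq_true, decide_eq_true_eq, beq_iff_eq] at t
    refine (Equiv.symm_apply_eq _).2 (gidx_injective (Fin.ext ?_))
    rw [hrep, gidx_gpt]
    simp [Fin.ofNat, Nat.mod_eq_of_lt t.1.2, t.2]
  rcases Bool.or_eq_true_iff.1 (List.all_eq_true.1 (List.all_eq_true.1 mono_check pq hpq) m hmc) with h | h
  · obtain ⟨k, hk, hk'⟩ := List.any_eq_true.1 h
    simp only [Bool.and_eq_true, Bool.or_eq_true, beq_iff_eq, List.all_eq_true] at hk'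
    have hs : σ = sigma ^ k := Equiv.ext fun p => by
      rw [rep_apply' hrep, hk'.1 _ (mem_bits24.2 (gidx p).isLt), ← rep_apply' (rep_pow k (List.mem_range.1 hk))]
    suffices hcent : g.1 * (f0 ^ k)⁻¹ ∈ Subgroup.center Co0 by
      rw [← inv_mul_cancel_right g.1 (f0 ^ k)]
      exact Subgroup.mul_mem_sup hcent (Subgroup.npow_mem_zpowers f0 k)
    refine mem_center_of_trivial_mod_two fun v => ?_
    have e : ∀ p, ((((g.1 * (f0 ^ k)⁻¹) • v : leechLattice) : GolayPt → ℤ)) p =
        if p ∈ mset m then -(v : GolayPt → ℤ) p else (v : GolayPt → ℤ) p := by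
      intro p
      rw [mul_smul, hv]
      simp only [signedPerm, f0_pow_inv_smul k (List.mem_range.1 hk),
        ← rep_apply' (rep_pow k (List.mem_range.1 hk)), hs, Equiv.apply_symm_apply]
    rcases hk'.2 with rfl | rfl
    · refine ⟨0, ?_⟩
      funext p
      simp [e, mset_zero]
    · refine ⟨-v, ?_⟩
      funext p
      simp only [Pi.sub_apply, e, mset_univ, Finset.mem_univ, if_true, AddSubgroup.coe_neg, Pi.smul_apply,
        Pi.neg_apply, nsmul_eq_mul]
      push_cast
      ring
  · exfalso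
    simp only [List.any_eq_true, Bool.and_eq_true, bne_iff_ne, List.mem_range] at h
    obtain ⟨a, ha, b, hb, hba, he⟩ := h
    have ha8 : a < 8 := by revert ha; simp; omega
    have e1 : cls (g.1 • combL a) = phi (bits 6 b) := by
      refine cls_comb_eq ?_
      rw [hv, combL_coe]
      rw [show signedPerm σ (mset m) (combV a) = monoV pq.2 m (combV a) from funext fun p => by
        simp only [signedPerm, monoV, mem_mset, hq p, Bool.cond_eq_ite]]
      exact he
    have e2 : cls (g.1 • combL a) = phi (bits 6 a) := by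
      rw [← qact_cls, ← phi_bits, ← ext3_bits ⟨a, ha8⟩]
      exact hfix _
    have := congrArg code (phi_injective (e1.symm.trans e2))
    rw [bits_code ⟨b, by omega⟩, bits_code ⟨a, by omega⟩] at this
    exact hba this

theorem rho_eq_one_iff (g : cenF) : rho g = 1 ↔ g.1 ∈ Subgroup.center Co0 ⊔ Subgroup.zpowers f0 := by
  refine ⟨ker_rho, fun h => rho_eq_iff.2 fun v => ?_⟩
  rw [Matrix.SpecialLinearGroup.coe_one, Matrix.one_mulVec]
  let S : Subgroup Co0 :=
    { carrier := {x | qact x (psi v) = psi v}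
      one_mem' := qact_one _
      mul_mem' := fun {x y} hx hy => by
        show qact (x * y) (psi v) = psi v
        rw [qact_mul, show qact y (psi v) = psi v from hy, show qact x (psi v) = psi v from hx]
      inv_mem' := fun {x} hx => by
        show qact x⁻¹ (psi v) = psi v
        conv_lhs => rw [← show qact x (psi v) = psi v from hx, qact_inv_self] }
  exact (sup_le (fun x hx => qact_center hx _) (Subgroup.zpowers_le.2 (f0_psi v)) :
    Subgroup.center Co0 ⊔ Subgroup.zpowers f0 ≤ S) h

theorem rho_eq_one_of_fix (g : cenF) (h : ∀ q ∈ fixSet f0, qact g.1 q = q) : rho g = 1 :=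
  rho_eq_iff.2 fun v => by
    rw [Matrix.SpecialLinearGroup.coe_one, Matrix.one_mulVec]
    exact h _ (f0_psi v)

end Cfsg.Lib.MonsterSeven
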