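import Cfsg.Agent.Lib.MonsterSeven.DatumTop
import Cfsg.Agent.Lib.Concrete.MonsterPairs

/-!
In the centralizer of a group of order seven the only conjugates of `z` in the two extraspecial subgroups at `z` and
a second central involution `s` are `z`, `s` and `s z`.
-/

set_option autoImplicit false
set_option maxRecDepth 100000

namespace Cfsg.Lib.MonsterSeven

open Cfsg Cfsg.Lib.Concrete Cfsg.Lib.MonsterLocal

/-- The coordinates of a fixed class orthogonal to all pairs of fours are congruent modulo four. -/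
def pairsOK (c : ℕ) : Bool :=
  bits24.all fun i => bits24.all fun j =>
    Nat.beq i j || (combV c (gpt (Fin.ofNat 24 i)) + combV c (gpt (Fin.ofNat 24 j))) % 4 == 0

theorem pairs_check : (sixtyFour.all fun c => !pairsOK c || Nat.beq c 1) = true := by decide +kernel

theorem gpt_inj_bits : ∀ i < 24, ∀ j < 24, gpt (Fin.ofNat 24 i) = gpt (Fin.ofNat 24 j) → i = j := by
  decide +kernel

variable {G : Type*} [Group G] [Finite G] {z : G} {Q : Subgroup (Subgroup.centralizer ({z} : Set G))} [Q.Normal]

/-- A conjugate of `z` fixed by the group of order seven and in both extraspecial subgroups. -/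
theorem sharp (hM : IsOfMonsterType z Q) {a : G} (D : Datum z Q f0 7 a) (q : Q)
    (hv : D.ψ top = QuotientGroup.mk q) {g : G}
    (hq : ((q : Subgroup.centralizer ({z} : Set G)) : G) = g * z * g⁻¹) (hne : g * z * g⁻¹ ≠ z) (x : Q)
    (hxa : Commute a ((x : Subgroup.centralizer ({z} : Set G)) : G))
    (hxg : ∃ p : Q, g * ((p : Subgroup.centralizer ({z} : Set G)) : G) * g⁻¹ =
      ((x : Subgroup.centralizer ({z} : Set G)) : G))
    (hc : IsConj z ((x : Subgroup.centralizer ({z} : Set G)) : G)) :
    ((x : Subgroup.centralizer ({z} : Set G)) : G) = z ∨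
      ((x : Subgroup.centralizer ({z} : Set G)) : G) = g * z * g⁻¹ ∨
      ((x : Subgroup.centralizer ({z} : Set G)) : G) = g * z * g⁻¹ * z := by
  classical
  rcases em (((x : Subgroup.centralizer ({z} : Set G)) : G) = z) with hxz | hxz
  · exact Or.inl hxz
  right
  obtain ⟨v, hv64, hvx, -⟩ := exists_rep64 D.setting D.iso x hc hxz
  have hfix : cls v ∈ fixSet f0 := (D.commute_iff hvx).1 hxa
  rw [fixSet_eq] at hfix
  obtain ⟨u, hu⟩ := hfix
  have hsix : code u ∈ sixtyFour := (phi_mem_sixty u).1 (hu ▸ ⟨v, hv64, rfl⟩)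
  have hw : D.ψ (combL (code u)) = QuotientGroup.mk x :=
    hvx ▸ D.ψ_eq_iff.2 ((phi_code u).symm.trans hu)
  obtain ⟨hzQ, hz, hZ, hcard⟩ := setting_facts hM
  have hψ := D.iso
  obtain ⟨hadd, hsurj, hker, hconj⟩ := hψ
  have h2 : ∀ w, D.ψ (w + w) = 1 := fun w => (hker _).2 ⟨w, rfl⟩
  have hinv : ∀ c : Co0, ∃ θ : Q ≃* Q, ∀ v q, D.ψ v = QuotientGroup.mk q →
      D.ψ (c • v) = QuotientGroup.mk (θ q) := fun c => by
    obtain ⟨h, hh⟩ := QuotientGroup.mk_surjective (D.e.symm (QuotientGroup.mk c))
    refine ⟨MulAut.conjNormal h, fun v q hq => ?_⟩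
    rw [hconj h c (by rw [hh, MulEquiv.apply_symm_apply]) v q hq]
    congr 1
  have hpairs : pairsOK (code u) = true := by
    simp only [pairsOK, List.all_eq_true, Bool.or_eq_true, beq_iff_eq]
    intro i hi j hj
    rw [mem_bits24] at hi hj
    by_cases hij : i = j
    · exact Or.inl (hij ▸ Nat.beq_refl i)
    refine Or.inr ?_
    obtain ⟨p, hp⟩ := QuotientGroup.mk_surjective
      (D.ψ (Cfsg.Agent.S5408.fourPair (gpt (Fin.ofNat 24 i)) (gpt (Fin.ofNat 24 j))))
    have hcomm := (fourPair_mem_conj hM D.e D.ψ D.iso q hq hne hv _ _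
      (fun h => hij (gpt_inj_bits i hi j hj h)) p hp.symm).2 x hxg
    have h16 := (commute_iff_dot hadd hsurj h2 hZ hinv (by rw [hcard]; norm_num) hw hp.symm).1 hcomm
    rw [dot_fourPair, combL_coe] at h16
    omega
  have h1 : code u = 1 := by
    have h := List.all_eq_true.1 pairs_check _ hsix
    rw [hpairs] at h
    exact Nat.eq_of_beq_eq_true (by simpa using h)
  have htop : cls (combL (code u)) = cls top := by
    rw [h1, ← psi_top, psi_code, show code (bits 3 1) = 1 by decide +kernel]
  have he : QuotientGroup.mk x = (QuotientGroup.mk q : Q ⧸ Subgroup.center Q) := by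
    rw [← hw, ← hv]; exact D.ψ_eq_iff.2 htop
  have hqz : ∀ c ∈ Subgroup.center Q, x = q * c →
      ((x : Subgroup.centralizer ({z} : Set G)) : G) = g * z * g⁻¹ ∨
      ((x : Subgroup.centralizer ({z} : Set G)) : G) = g * z * g⁻¹ * z := by
    intro c hcc hxc
    rcases D.center_cases hcc with rfl | rfl
    · left; rw [hxc, mul_one, hq]
    · right
      rw [hxc, ← hq]
      rfl
  exact hqz _ (QuotientGroup.eq.1 he.symm) (mul_inv_cancel_left q x).symm

end Cfsg.Lib.MonsterSeven
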